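import Groth.Agent.Lib.Dim.Ring
import Mathlib.RingTheory.NoetherNormalization
import Mathlib.RingTheory.AlgebraicIndependent.TranscendenceBasis
import Mathlib.RingTheory.RingHom.StandardSmooth
import Mathlib.RingTheory.Smooth.StandardSmoothOfFree
import Mathlib.RingTheory.Smooth.StandardSmoothCotangent
import Mathlib.RingTheory.Smooth.Flat
import Mathlib.RingTheory.Flat.TorsionFree
import Mathlib.RingTheory.TensorProduct.MvPolynomial
import Mathlib.Algebra.MvPolynomial.Funext

/-!
# Polynomials vanishing on secant and tangent vectors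
-/

set_option autoImplicit false
set_option linter.all false
set_option backward.isDefEq.respectTransparency false
set_option maxHeartbeats 800000

universe u

open MvPolynomial TensorProduct

namespace GrothLib.SecProj5

variable {k : Type u} [Field k]

/-- An injection of a polynomial ring passes to a domain quotient. -/
theorem exists_prime_injective {B : Type u} [CommRing B] [Algebra k B] {m : ℕ} (h : MvPolynomial (Fin m) k →ₐ[k] B)
    (hh : Function.Injective h) :
    ∃ P : Ideal B, P.IsPrime ∧ Function.Injective ((Ideal.Quotient.mkₐ k P).comp h) := by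
  have h0 : (⊥ : Ideal (MvPolynomial (Fin m) k)) ∈ ((⊥ : Ideal B).comap h.toRingHom).minimalPrimes := by
    rw [Ideal.comap_bot_of_injective h.toRingHom hh]
    exact ⟨⟨Ideal.isPrime_bot, le_rfl⟩, fun _ _ _ => bot_le⟩
  obtain ⟨P, hP, -, hPc⟩ := Ideal.exists_comap_eq_of_mem_minimalPrimes h.toRingHom _ h0
  refine ⟨P, hP, (injective_iff_map_eq_zero _).2 fun x hx => ?_⟩
  have h1 : x ∈ P.comap h.toRingHom := ((Ideal.Quotient.eq_zero_iff_mem (I := P) (a := h x)).1 hx : h x ∈ P)
  rwa [hPc, Ideal.mem_bot] at h1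

/-- The transcendence degree of a domain integral over a polynomial ring. -/
theorem trdeg_le_of_isIntegral {D : Type u} [CommRing D] [IsDomain D] [Algebra k D] {s : ℕ}
    (g : MvPolynomial (Fin s) k →ₐ[k] D) (hg : g.IsIntegral) : Algebra.trdeg k D ≤ (s : Cardinal) := by
  let S : Set D := Set.range fun i => g (X i)
  have hint : ∀ a : D, IsIntegral (Algebra.adjoin k S) a := by
    intro a
    obtain ⟨p, hpm, hp⟩ := hg a
    have hrange : ∀ x, g x ∈ Algebra.adjoin k S := fun x => by
      induction x using MvPolynomial.induction_on with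
      | C r => rw [show g (C r) = algebraMap k D r from g.commutes r]; exact Subalgebra.algebraMap_mem _ r
      | add p q hp hq => rw [map_add]; exact add_mem hp hq
      | mul_X p i hp => rw [map_mul]; exact mul_mem hp (Algebra.subset_adjoin ⟨i, rfl⟩)
    let g' : MvPolynomial (Fin s) k →ₐ[k] Algebra.adjoin k S := g.codRestrict _ hrange
    refine ⟨p.map g'.toRingHom, hpm.map _, ?_⟩
    rw [Polynomial.eval₂_map]
    exact hp
  haveI : Algebra.IsIntegral (Algebra.adjoin k S) D := ⟨hint⟩
  haveI : Algebra.IsAlgebraic (Algebra.adjoin k S) D := inferInstance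
  refine (Algebra.IsAlgebraic.trdeg_le_cardinalMk k S).trans ?_
  have := Cardinal.mk_range_le_lift (f := fun i : Fin s => g (X i))
  simpa [S] using this

/-- At most `s` algebraically independent elements in an algebra integral over `k[X₁, …, X_s]`. -/
theorem card_le_of_injective {B : Type u} [CommRing B] [Algebra k B] {s : ℕ}
    (g : MvPolynomial (Fin s) k →ₐ[k] B) (hg : g.IsIntegral) {m : ℕ} (h : MvPolynomial (Fin m) k →ₐ[k] B)
    (hh : Function.Injective h) : m ≤ s := by
  obtain ⟨P, hP, hinj⟩ := exists_prime_injective h hh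
  have hq : ((Ideal.Quotient.mkₐ k P).comp g).IsIntegral :=
    RingHom.IsIntegral.trans g.toRingHom (Ideal.Quotient.mk P) hg
      (RingHom.isIntegral_of_surjective _ Ideal.Quotient.mk_surjective)
  have h1 := (trdeg_le_of_injective _ hinj).trans (trdeg_le_of_isIntegral _ hq)
  rw [MvPolynomial.trdeg_of_isDomain, Cardinal.mk_fin, Cardinal.lift_natCast] at h1
  exact_mod_cast h1

/-- A polynomial kills a map out of a large polynomial ring. -/
theorem exists_ne_zero_map_eq_zero {B : Type u} [CommRing B] [Algebra k B] {s : ℕ}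
    (g : MvPolynomial (Fin s) k →ₐ[k] B) (hg : g.IsIntegral) {m : ℕ} (hm : s < m)
    (h : MvPolynomial (Fin m) k →ₐ[k] B) : ∃ F ≠ 0, h F = 0 := by
  by_contra hc
  push Not at hc
  exact absurd (card_le_of_injective g hg h
    ((injective_iff_map_eq_zero h).2 fun x hx => by_contra fun hne => hc x hne hx)) (not_le.mpr hm)

/-- Noether normalisation in at most `d` variables. -/
theorem exists_integral_of_dim_le {A : Type u} [CommRing A] [Algebra k A] [Algebra.FiniteType k A] {d : ℕ}
    (hd : ringKrullDim A ≤ d) : ∃ g : MvPolynomial (Fin d) k →ₐ[k] A, g.IsIntegral := by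
  rcases subsingleton_or_nontrivial A with hA | hA
  · refine ⟨aeval fun _ => 0, RingHom.isIntegral_of_surjective _ fun x => ⟨0, Subsingleton.elim _ _⟩⟩
  obtain ⟨s, g, hinj, hint⟩ := exists_integral_inj_algHom_of_fg k A
  obtain ⟨P, hP, hPinj⟩ := exists_prime_injective g hinj
  haveI : Algebra.FiniteType k (A ⧸ P) :=
    Algebra.FiniteType.of_surjective (Ideal.Quotient.mkₐ k P) Ideal.Quotient.mk_surjective
  obtain ⟨t, ht, htd⟩ := GrothLib.Dim.exists_nat_trdeg_eq_and_ringKrullDim_eq k (A ⧸ P)
  have hst : s ≤ t := by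
    have h1 := trdeg_le_of_injective _ hPinj
    rw [ht, MvPolynomial.trdeg_of_isDomain, Cardinal.mk_fin, Cardinal.lift_natCast] at h1
    exact_mod_cast h1
  have hsd : s ≤ d := by
    have h2 := (htd.symm.le.trans (ringKrullDim_quotient_le P)).trans hd
    exact hst.trans (by exact_mod_cast h2)
  let π : MvPolynomial (Fin d) k →ₐ[k] MvPolynomial (Fin s) k :=
    aeval fun i => if h : i.1 < s then X ⟨i.1, h⟩ else 0
  have hπ : Function.Surjective π := by
    intro x
    induction x using MvPolynomial.induction_on with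
    | C r => exact ⟨C r, π.commutes r⟩
    | add p q hp hq =>
      obtain ⟨a, rfl⟩ := hp
      obtain ⟨b, rfl⟩ := hq
      exact ⟨a + b, map_add _ _ _⟩
    | mul_X p i hp =>
      obtain ⟨a, rfl⟩ := hp
      exact ⟨a * X ⟨i.1, i.2.trans_le hsd⟩, by simp [π]⟩
  exact ⟨g.comp π, RingHom.IsIntegral.trans π.toRingHom g.toRingHom (RingHom.isIntegral_of_surjective _ hπ) hint⟩

/-- Polynomial extensions of integral maps. -/
theorem isIntegral_mapAlgHom {B : Type u} [CommRing B] [Algebra k B] {s r : ℕ}
    (g : MvPolynomial (Fin s) k →ₐ[k] B) (hg : g.IsIntegral) :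
    ∃ G : MvPolynomial (Fin (s + r)) k →ₐ[k] MvPolynomial (Fin r) B, G.IsIntegral := by
  let G : MvPolynomial (Fin (s + r)) k →ₐ[k] MvPolynomial (Fin r) B :=
    aeval (Fin.append (fun i => C (g (X i))) fun j => X j)
  refine ⟨G, fun x => ?_⟩
  induction x using MvPolynomial.induction_on with
  | C b =>
    obtain ⟨p, hpm, hp⟩ := hg b
    let ι : MvPolynomial (Fin s) k →ₐ[k] MvPolynomial (Fin (s + r)) k := rename (Fin.castAdd r)
    refine ⟨p.map ι.toRingHom, hpm.map _, ?_⟩
    have hc : G.toRingHom.comp ι.toRingHom = (C : B →+* MvPolynomial (Fin r) B).comp g.toRingHom :=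
      MvPolynomial.ringHom_ext
        (fun c => by simp [G, ι, MvPolynomial.algebraMap_eq, IsScalarTower.algebraMap_apply k B (MvPolynomial (Fin r) B)])
        fun i => by simp [G, ι]
    rw [Polynomial.eval₂_map]
    refine Eq.trans ?_ ((Polynomial.hom_eval₂ p g.toRingHom (C : B →+* MvPolynomial (Fin r) B) b).symm.trans
      ((congrArg C hp).trans (map_zero _)))
    exact congrArg (fun F => Polynomial.eval₂ F (C b) p) hc
  | add p q hp hq => exact RingHom.IsIntegralElem.add _ hp hq
  | mul_X p i hp =>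
    refine RingHom.IsIntegralElem.mul _ hp ?_
    exact ⟨Polynomial.X - Polynomial.C (X (Fin.natAdd s i)), Polynomial.monic_X_sub_C _, by simp [G]⟩

/-- Integral maps tensor. -/
theorem isIntegral_tensor {A B : Type u} [CommRing A] [CommRing B] [Algebra k A] [Algebra k B] {s t : ℕ}
    (g : MvPolynomial (Fin s) k →ₐ[k] A) (hg : g.IsIntegral) (h : MvPolynomial (Fin t) k →ₐ[k] B) (hh : h.IsIntegral) :
    ∃ G : MvPolynomial (Fin (s + t)) k →ₐ[k] A ⊗[k] B, G.IsIntegral := by
  let G : MvPolynomial (Fin (s + t)) k →ₐ[k] A ⊗[k] B :=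
    aeval (Fin.append (fun i => g (X i) ⊗ₜ (1 : B)) fun j => (1 : A) ⊗ₜ h (X j))
  refine ⟨G, fun x => ?_⟩
  induction x using TensorProduct.induction_on with
  | zero => exact RingHom.isIntegralElem_zero _
  | add p q hp hq => exact RingHom.IsIntegralElem.add _ hp hq
  | tmul a b =>
    rw [show a ⊗ₜ[k] b = (a ⊗ₜ[k] (1 : B)) * ((1 : A) ⊗ₜ[k] b) by simp]
    refine RingHom.IsIntegralElem.mul _ ?_ ?_
    · obtain ⟨p, hpm, hp⟩ := hg a
      refine ⟨p.map (rename (Fin.castAdd t)).toRingHom, hpm.map _, ?_⟩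
      have hc : G.toRingHom.comp (rename (Fin.castAdd t)).toRingHom =
          (Algebra.TensorProduct.includeLeft : A →ₐ[k] A ⊗[k] B).toRingHom.comp g.toRingHom :=
        congrArg AlgHom.toRingHom (show G.comp (rename (Fin.castAdd t)) =
          (Algebra.TensorProduct.includeLeft : A →ₐ[k] A ⊗[k] B).comp g from MvPolynomial.algHom_ext fun i => by simp [G])
      rw [Polynomial.eval₂_map]
      refine Eq.trans ?_ ((Polynomial.hom_eval₂ p g.toRingHom
        (Algebra.TensorProduct.includeLeft : A →ₐ[k] A ⊗[k] B).toRingHom a).symm.trans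
        ((congrArg _ hp).trans (map_zero _)))
      exact congrArg (fun F => Polynomial.eval₂ F (a ⊗ₜ[k] (1 : B)) p) hc
    · obtain ⟨p, hpm, hp⟩ := hh b
      refine ⟨p.map (rename (Fin.natAdd s)).toRingHom, hpm.map _, ?_⟩
      have hc : G.toRingHom.comp (rename (Fin.natAdd s)).toRingHom =
          (Algebra.TensorProduct.includeRight : B →ₐ[k] A ⊗[k] B).toRingHom.comp h.toRingHom :=
        congrArg AlgHom.toRingHom (show G.comp (rename (Fin.natAdd s)) =
          (Algebra.TensorProduct.includeRight : B →ₐ[k] A ⊗[k] B).comp h from MvPolynomial.algHom_ext fun i => by simp [G])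
      rw [Polynomial.eval₂_map]
      refine Eq.trans ?_ ((Polynomial.hom_eval₂ p h.toRingHom
        (Algebra.TensorProduct.includeRight : B →ₐ[k] A ⊗[k] B).toRingHom b).symm.trans
        ((congrArg _ hp).trans (map_zero _)))
      exact congrArg (fun F => Polynomial.eval₂ F ((1 : A) ⊗ₜ[k] b) p) hc

/-- A polynomial vanishing on all combinations of two points. -/
theorem exists_secant_poly {A B : Type u} [CommRing A] [CommRing B] [Algebra k A] [Algebra k B] {d : ℕ}
    (g : MvPolynomial (Fin d) k →ₐ[k] A) (hg : g.IsIntegral) (h : MvPolynomial (Fin d) k →ₐ[k] B) (hh : h.IsIntegral)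
    {n : ℕ} (hn : d + d + 2 < n) (u : Fin n → A) (v : Fin n → B) :
    ∃ F ≠ (0 : MvPolynomial (Fin n) k), ∀ (Ω : Type u) [Field Ω] [Algebra k Ω] (φ : A →ₐ[k] Ω) (ψ : B →ₐ[k] Ω)
      (a b : Ω), aeval (fun l => a * φ (u l) + b * ψ (v l)) F = 0 := by
  obtain ⟨G, hG⟩ := isIntegral_tensor g hg h hh
  obtain ⟨G', hG'⟩ := isIntegral_mapAlgHom (r := 2) G hG
  obtain ⟨F, hF, hF0⟩ := exists_ne_zero_map_eq_zero G' hG' hn
    (aeval fun l => X 0 * C (u l ⊗ₜ[k] (1 : B)) + X 1 * C ((1 : A) ⊗ₜ[k] v l))
  refine ⟨F, hF, fun Ω _ _ φ ψ a b => ?_⟩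
  let ev0 : A ⊗[k] B →ₐ[k] Ω := Algebra.TensorProduct.productMap φ ψ
  let ev : MvPolynomial (Fin 2) (A ⊗[k] B) →ₐ[k] Ω :=
    { eval₂Hom ev0.toRingHom ![a, b] with
      commutes' := fun c => by
        show eval₂Hom ev0.toRingHom ![a, b] (C (algebraMap k (A ⊗[k] B) c)) = _
        rw [eval₂Hom_C]
        exact ev0.commutes c }
  have hev : ev.comp (aeval fun l => X 0 * C (u l ⊗ₜ[k] (1 : B)) + X 1 * C ((1 : A) ⊗ₜ[k] v l)) =
      aeval fun l => a * φ (u l) + b * ψ (v l) := MvPolynomial.algHom_ext fun l => by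
    simp [ev, ev0]
  rw [← hev]
  exact (congrArg ev hF0).trans (map_zero ev)

/-- The number of variables of a nonzero standard smooth algebra is at most its normalisation. -/
theorem relDim_le {B : Type u} [CommRing B] [Nontrivial B] [Algebra k B] (r : ℕ)
    [Algebra.IsStandardSmoothOfRelativeDimension r k B] {s : ℕ} (g : MvPolynomial (Fin s) k →ₐ[k] B)
    (hg : g.IsIntegral) : r ≤ s := by
  obtain ⟨φ, hφ⟩ := Algebra.IsStandardSmoothOfRelativeDimension.exists_etale_mvPolynomial r k B
  algebraize [φ.toRingHom]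
  refine card_le_of_injective g hg φ ((injective_iff_map_eq_zero φ).2 fun g hg => ?_)
  by_contra hne
  haveI : Module.IsTorsionFree (MvPolynomial (Fin r) k) B := inferInstance
  have h1 : g • (1 : B) = 0 := by
    show φ g * 1 = 0
    rw [hg, zero_mul]
  rcases smul_eq_zero.1 h1 with h | h
  · exact hne h
  · exact one_ne_zero h

/-- A polynomial vanishing on all tangent vectors on a standard smooth piece. -/
theorem exists_tangent_poly_piece {A : Type u} [CommRing A] [Algebra k A] [Algebra.FiniteType k A] {d : ℕ}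
    (hd : ringKrullDim A ≤ d) (x : A) [Algebra.IsStandardSmooth k (Localization.Away x)]
    {n : ℕ} (hn : d + d + 1 < n) (u : Fin n → A) :
    ∃ F ≠ (0 : MvPolynomial (Fin n) k), ∀ (Ω : Type u) [Field Ω] [Algebra k Ω] [Algebra A Ω] [IsScalarTower k A Ω],
      algebraMap A Ω x ≠ 0 → ∀ (δ : Derivation k A Ω) (a : Ω),
        aeval (fun l => a * algebraMap A Ω (u l) + δ (u l)) F = 0 := by
  let B := Localization.Away x
  rcases subsingleton_or_nontrivial B with hB | hB
  · refine ⟨1, one_ne_zero, fun Ω _ _ _ _ hx δ a => ?_⟩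
    exfalso
    let φ : B →+* Ω := IsLocalization.Away.lift x (g := algebraMap A Ω) (isUnit_iff_ne_zero.mpr hx)
    exact one_ne_zero (α := Ω) (by rw [← map_one φ, Subsingleton.elim (1 : B) 0, map_zero])
  obtain ⟨ι, σ, hσ, hι, ⟨P⟩⟩ := (inferInstance : Algebra.IsStandardSmooth k B).out
  let r := P.dimension
  haveI : Algebra.IsStandardSmoothOfRelativeDimension r k B := P.isStandardSmoothOfRelativeDimension rfl
  have hdB : ringKrullDim B ≤ d := le_trans (Order.krullDim_le_of_strictMono (PrimeSpectrum.comap (algebraMap A B))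
    fun P Q hPQ => lt_of_le_of_ne (Ideal.comap_mono hPQ.le) fun h =>
      hPQ.ne (PrimeSpectrum.localization_comap_injective B (Submonoid.powers x) h)) hd
  obtain ⟨g, hg⟩ := exists_integral_of_dim_le (k := k) (A := B) hdB
  have hrd : r ≤ d := relDim_le r g hg
  obtain ⟨G, hG⟩ := isIntegral_mapAlgHom (r := r + 1) g hg
  haveI : Module.Free B Ω[B⁄k] := inferInstance
  haveI : Module.Finite B Ω[B⁄k] := inferInstance
  let bas := (Module.Free.chooseBasis B Ω[B⁄k]).reindex
    (Fintype.equivFinOfCardEq (n := r) (by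
      rw [← Module.finrank_eq_card_chooseBasisIndex, Module.finrank,
        Algebra.IsStandardSmoothOfRelativeDimension.rank_kaehlerDifferential r, Cardinal.toNat_natCast]))
  let u' : Fin n → B := fun l => algebraMap A B (u l)
  obtain ⟨F, hF, hF0⟩ := exists_ne_zero_map_eq_zero G hG (show d + (r + 1) < n by omega)
    (aeval fun l => X 0 * C (u' l) + ∑ m : Fin r, X m.succ * C (bas.repr (KaehlerDifferential.D k B (u' l)) m))
  refine ⟨F, hF, fun Ω _ _ _ _ hx δ a => ?_⟩
  let φ : B →+* Ω := IsLocalization.Away.lift x (g := algebraMap A Ω) (isUnit_iff_ne_zero.mpr hx)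
  letI : Algebra B Ω := φ.toAlgebra
  haveI : IsScalarTower A B Ω := IsScalarTower.of_algebraMap_eq fun y => (IsLocalization.Away.lift_eq x _ y).symm
  haveI : IsScalarTower k B Ω := IsScalarTower.of_algebraMap_eq fun c => by
    rw [IsScalarTower.algebraMap_apply k A B c, ← IsScalarTower.algebraMap_apply A B Ω, ← IsScalarTower.algebraMap_apply k A Ω]
  -- the derivation on the localisation
  haveI : Algebra.FormallyEtale A B := Algebra.FormallyEtale.of_isLocalization (Submonoid.powers x)
  let e := KaehlerDifferential.tensorKaehlerEquivOfFormallyEtale k A B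
  let f : Ω[B⁄k] →ₗ[B] Ω :=
    (LinearMap.liftBaseChange B δ.liftKaehlerDifferential) ∘ₗ e.symm.toLinearMap
  have hf : ∀ y : A, f (KaehlerDifferential.D k B (algebraMap A B y)) = δ y := fun y => by
    have he : e.symm (KaehlerDifferential.D k B (algebraMap A B y)) = 1 ⊗ₜ[A] KaehlerDifferential.D k A y := by
      rw [LinearEquiv.symm_apply_eq]
      simp [e, KaehlerDifferential.tensorKaehlerEquivOfFormallyEtale]
    show LinearMap.liftBaseChange B δ.liftKaehlerDifferential (e.symm _) = _
    rw [he, LinearMap.liftBaseChange_tmul, one_smul, Derivation.liftKaehlerDifferential_comp_D]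
  let ev : MvPolynomial (Fin (r + 1)) B →ₐ[k] Ω :=
    { eval₂Hom (algebraMap B Ω) (Fin.cons a fun m => f (bas m)) with
      commutes' := fun c => by
        show eval₂Hom (algebraMap B Ω) _ (C (algebraMap k B c)) = _
        rw [eval₂Hom_C, ← IsScalarTower.algebraMap_apply] }
  have hev : ev.comp (aeval fun l => X 0 * C (u' l) + ∑ m : Fin r, X m.succ * C (bas.repr (KaehlerDifferential.D k B (u' l)) m)) =
      aeval fun l => a * algebraMap A Ω (u l) + δ (u l) := MvPolynomial.algHom_ext fun l => by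
    rw [AlgHom.comp_apply, aeval_X, aeval_X, map_add, map_sum]
    congr 1
    · simp [ev, u', ← IsScalarTower.algebraMap_apply]
    · rw [← hf (u l)]
      conv_rhs => rw [← bas.sum_repr (KaehlerDifferential.D k B (algebraMap A B (u l))), map_sum]
      refine Finset.sum_congr rfl fun m _ => ?_
      simp [ev, u', Algebra.smul_def, mul_comm]
  rw [← hev]
  exact (congrArg ev hF0).trans (map_zero ev)

/-- A polynomial vanishing on all tangent vectors. -/
theorem exists_tangent_poly {A : Type u} [CommRing A] [Algebra k A] [Algebra.Smooth k A] {d : ℕ}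
    (hd : ringKrullDim A ≤ d) {n : ℕ} (hn : d + d + 1 < n) (u : Fin n → A) :
    ∃ F ≠ (0 : MvPolynomial (Fin n) k), ∀ (Ω : Type u) [Field Ω] [Algebra k Ω] [Algebra A Ω] [IsScalarTower k A Ω]
      (δ : Derivation k A Ω) (a : Ω), aeval (fun l => a * algebraMap A Ω (u l) + δ (u l)) F = 0 := by
  classical
  obtain ⟨S, hS, hstd⟩ := Algebra.Smooth.exists_span_eq_top_isStandardSmooth k A
  obtain ⟨T, hTS, hT⟩ := (Ideal.span_eq_top_iff_finite _).mp hS
  have hex : ∀ x ∈ T, ∃ F ≠ (0 : MvPolynomial (Fin n) k), ∀ (Ω : Type u) [Field Ω] [Algebra k Ω] [Algebra A Ω]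
      [IsScalarTower k A Ω], algebraMap A Ω x ≠ 0 → ∀ (δ : Derivation k A Ω) (a : Ω),
        aeval (fun l => a * algebraMap A Ω (u l) + δ (u l)) F = 0 := fun x hx => by
    haveI := hstd x (hTS hx)
    exact exists_tangent_poly_piece hd x hn u
  choose! F hF hF0 using hex
  refine ⟨∏ x ∈ T, F x, Finset.prod_ne_zero_iff.mpr hF, fun Ω _ _ _ _ δ a => ?_⟩
  obtain ⟨x, hx, hx0⟩ : ∃ x ∈ T, algebraMap A Ω x ≠ 0 := by
    by_contra hc
    push Not at hc
    have hle : Ideal.span (T : Set A) ≤ RingHom.ker (algebraMap A Ω) := Ideal.span_le.mpr hc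
    rw [hT] at hle
    exact one_ne_zero (α := Ω) (by simpa using hle (Submodule.mem_top (x := (1 : A))))
  rw [map_prod]
  exact Finset.prod_eq_zero hx (hF0 x hx Ω hx0 δ a)

/-- A rational vector avoiding the zeros of finitely many nonzero polynomials. -/
theorem exists_avoid [Infinite k] {n : ℕ} (hn : 0 < n) {ι : Type*} [Fintype ι] (F : ι → MvPolynomial (Fin n) k)
    (hF : ∀ i, F i ≠ 0) : ∃ p : Fin n → k, p ≠ 0 ∧ ∀ i, MvPolynomial.eval p (F i) ≠ 0 := by
  classical
  have hne : (X ⟨0, hn⟩ : MvPolynomial (Fin n) k) * ∏ i, F i ≠ 0 :=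
    mul_ne_zero (X_ne_zero _) (Finset.prod_ne_zero_iff.mpr fun i _ => hF i)
  obtain ⟨p, hp⟩ : ∃ p, MvPolynomial.eval p ((X ⟨0, hn⟩ : MvPolynomial (Fin n) k) * ∏ i, F i) ≠ 0 := by
    by_contra hc
    push Not at hc
    exact hne (MvPolynomial.funext fun p => by rw [hc p, map_zero])
  rw [map_mul, eval_X, map_prod, mul_ne_zero_iff, Finset.prod_ne_zero_iff] at hp
  exact ⟨p, fun h => hp.1 (by simp [h]), fun i => hp.2 i (Finset.mem_univ i)⟩

end GrothLib.SecProj5
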