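import Groth.Agent.Lib.UnramLoc9.Field
import Mathlib.RingTheory.Unramified.Basic
import Mathlib.RingTheory.Kaehler.Basic
import Mathlib.Algebra.DualNumber
import Mathlib.FieldTheory.IsAlgClosed.AlgebraicClosure

/-!
# Finite ring maps separating dual-number points are surjective
-/

set_option autoImplicit false
set_option linter.all false
set_option backward.isDefEq.respectTransparency false
set_option maxHeartbeats 600000

universe u

open CategoryTheory AlgebraicGeometry TrivSqZeroExt

namespace GrothLib.SecProj5

/-- The dual-number point of a point and a derivation at it. -/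
noncomputable def derivPoint {A Ω : Type u} [CommRing A] [Field Ω] (φ : A →+* Ω) (δ : A → Ω)
    (hadd : ∀ a b, δ (a + b) = δ a + δ b) (hmul : ∀ a b, δ (a * b) = φ a * δ b + φ b * δ a) : A →+* DualNumber Ω where
  toFun a := inl (φ a) + inr (δ a)
  map_one' := by
    have h : δ 1 = δ 1 + δ 1 := by simpa using hmul 1 1
    have h0 : δ 1 = 0 := by simpa using h
    ext <;> simp [h0]
  map_mul' a b := by
    ext
    · simp
    · simp [hmul, mul_comm]
  map_zero' := by
    have h : δ 0 = δ 0 + δ 0 := by simpa using hadd 0 0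
    have h0 : δ 0 = 0 := by simpa using h
    ext <;> simp [h0]
  map_add' a b := by
    ext
    · simp
    · simp [hadd]

/-- Separation of dual-number points forces surjectivity of a finite map. -/
theorem surjective_of_finite_of_separating {B A : Type u} [CommRing B] [CommRing A] (h : B →+* A) (hfin : h.Finite)
    (hsep : ∀ (Ω : Type u) [Field Ω] [IsAlgClosed Ω] (Φ Ψ : A →+* DualNumber Ω),
      (∀ b, TrivSqZeroExt.snd (Φ (h b)) = 0) → Φ.comp h = Ψ.comp h → Φ = Ψ) :
    Function.Surjective h := by
  letI : Algebra B A := h.toAlgebra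
  haveI : Module.Finite B A := hfin
  haveI : Algebra.FormallyUnramified B A := by
    constructor
    haveI : Module.Finite A Ω[A⁄B] := inferInstance
    refine subsingleton_of_forall_eq 0 fun ω => ?_
    have hle : ∀ M : Ideal A, M.IsMaximal → (⊤ : Submodule A Ω[A⁄B]) ≤ M • ⊤ := by
      intro M hM
      by_contra hne
      let V := Ω[A⁄B] ⧸ (M • ⊤ : Submodule A Ω[A⁄B])
      letI : Field (A ⧸ M) := Ideal.Quotient.field M
      let K := AlgebraicClosure (A ⧸ M)
      letI : Algebra A K := ((algebraMap (A ⧸ M) K).comp (Ideal.Quotient.mk M)).toAlgebra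
      letI : Module (A ⧸ M) V := Module.IsTorsionBySet.module
        (fun x ⟨a, ha⟩ => by
          obtain ⟨y, rfl⟩ := Submodule.Quotient.mk_surjective _ x
          show a • Submodule.Quotient.mk y = 0
          rw [← Submodule.Quotient.mk_smul, Submodule.Quotient.mk_eq_zero]
          exact Submodule.smul_mem_smul ha Submodule.mem_top)
      haveI : IsScalarTower A (A ⧸ M) V := Module.IsTorsionBySet.isScalarTower _
      obtain ⟨y, -, hy⟩ := SetLike.not_le_iff_exists.mp hne
      obtain ⟨ℓ, hℓ⟩ : ∃ ℓ : V →ₗ[A ⧸ M] A ⧸ M, ℓ (Submodule.Quotient.mk y) ≠ 0 := by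
        by_contra hc
        push Not at hc
        exact hy ((Submodule.Quotient.mk_eq_zero _).mp ((Module.forall_dual_apply_eq_zero_iff (A ⧸ M) _).mp hc))
      let δ₀ : A → K := fun a => algebraMap (A ⧸ M) K (ℓ (Submodule.Quotient.mk (KaehlerDifferential.D B A a)))
      let φ := algebraMap A K
      let Φ := derivPoint φ δ₀ (fun a b => by simp [δ₀])
        (fun a b => by
          have hs : ∀ (c : A) (v : V), algebraMap (A ⧸ M) K (ℓ (c • v)) = algebraMap A K c * algebraMap (A ⧸ M) K (ℓ v) := by
            intro c v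
            rw [← IsScalarTower.algebraMap_smul (A ⧸ M) c v, map_smul, smul_eq_mul, map_mul]
            rfl
          simp only [δ₀, Derivation.leibniz, Submodule.Quotient.mk_add, Submodule.Quotient.mk_smul, map_add]
          rw [hs, hs])
      let Ψ := derivPoint φ (fun _ => 0) (fun _ _ => by simp) (fun _ _ => by simp)
      have heq : Φ = Ψ := hsep K Φ Ψ (fun b => by
        have hb : KaehlerDifferential.D B A (h b) = 0 := (KaehlerDifferential.D B A).map_algebraMap b
        simp [Φ, derivPoint, δ₀, hb]) (RingHom.ext fun b => by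
        have hb : KaehlerDifferential.D B A (h b) = 0 := (KaehlerDifferential.D B A).map_algebraMap b
        show inl (φ (h b)) + inr (δ₀ (h b)) = inl (φ (h b)) + inr 0
        simp [δ₀, hb])
      have hzero : ∀ a, ℓ (Submodule.Quotient.mk (KaehlerDifferential.D B A a)) = 0 := fun a => by
        have h1 := congrArg (fun F : A →+* DualNumber K => TrivSqZeroExt.snd (F a)) heq
        simp [Φ, Ψ, derivPoint, δ₀] at h1
        exact h1
      suffices H : ∀ z ∈ Submodule.span A (Set.range (KaehlerDifferential.D B A)), ℓ (Submodule.Quotient.mk z) = 0 from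
        hℓ (H y (by rw [KaehlerDifferential.span_range_derivation]; trivial))
      intro z hz
      induction hz using Submodule.span_induction with
      | mem x hx => obtain ⟨a, rfl⟩ := hx; exact hzero a
      | zero => simp
      | add x x' _ _ h1 h2 => rw [Submodule.Quotient.mk_add, map_add, h1, h2, add_zero]
      | smul c x _ h1 =>
        rw [Submodule.Quotient.mk_smul, ← IsScalarTower.algebraMap_smul (A ⧸ M) c, map_smul, h1, smul_zero]
    by_contra hω
    have hann : (⊤ : Submodule A Ω[A⁄B]).annihilator ≠ ⊤ := by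
      intro ht
      apply hω
      have := Submodule.mem_annihilator.mp ((Ideal.eq_top_iff_one _).mp ht) ω trivial
      rwa [one_smul] at this
    obtain ⟨M, hM, hMle⟩ := Ideal.exists_le_maximal _ hann
    obtain ⟨r, hr, hr0⟩ := Submodule.exists_sub_one_mem_and_smul_eq_zero_of_fg_of_le_smul M ⊤ Module.Finite.fg_top (hle M hM)
    have h1 : r ∈ M := hMle (Submodule.mem_annihilator.mpr fun x hx => hr0 x hx)
    exact hM.ne_top ((Ideal.eq_top_iff_one M).mpr (by simpa using sub_mem h1 hr))
  let f := Spec.map (CommRingCat.ofHom h)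
  haveI : IsFinite f := (IsFinite.SpecMap_iff _).mpr hfin
  haveI : FormallyUnramified f := (HasRingHomProperty.Spec_iff (P := @FormallyUnramified)).mpr
    (RingHom.formallyUnramified_algebraMap.mpr inferInstance)
  haveI : IsClosedImmersion f := UnramLoc9.isClosedImmersion_of_injective f fun Ω _ _ g g' e => by
    obtain ⟨φ, rfl⟩ := Spec.map_surjective g
    obtain ⟨ψ, rfl⟩ := Spec.map_surjective g'
    simp only [f, ← Spec.map_comp] at e
    have e' := congrArg CommRingCat.Hom.hom (Spec.map_injective e)
    have h1 := hsep Ω ((TrivSqZeroExt.inlHom Ω Ω).comp φ.hom) ((TrivSqZeroExt.inlHom Ω Ω).comp ψ.hom) (fun b => by simp)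
      (RingHom.ext fun b => congrArg (TrivSqZeroExt.inl (M := Ω)) (RingHom.congr_fun e' b))
    congr 1
    ext a
    exact TrivSqZeroExt.inl_injective (RingHom.congr_fun h1 a)
  have hs := (IsClosedImmersion.isAffine_surjective_of_isAffine (f := f)).2
  intro a
  obtain ⟨b, hb⟩ := hs ((Scheme.ΓSpecIso (CommRingCat.of A)).inv a)
  refine ⟨(Scheme.ΓSpecIso (CommRingCat.of B)).hom b, ?_⟩
  have hn := congrArg (fun F => F.hom b) (Scheme.ΓSpecIso_naturality (CommRingCat.ofHom h))
  refine hn.symm.trans ?_
  show (Scheme.ΓSpecIso (CommRingCat.of A)).hom (f.appTop b) = a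
  rw [hb]
  exact congrArg (fun F => F.hom a) (Scheme.ΓSpecIso (CommRingCat.of A)).inv_hom_id

end GrothLib.SecProj5
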