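import Groth.Agent.Lib.KerImm5.Main
import Groth.Agent.Lib.SecProj5.Sep

/-!
# Linear projections which separate dual-number points are closed immersions
-/

set_option autoImplicit false
set_option linter.all false
set_option backward.isDefEq.respectTransparency false
set_option maxHeartbeats 800000

universe u

open AlgebraicGeometry CategoryTheory CategoryTheory.Limits TopologicalSpace Opposite TrivSqZeroExt
open GrothLib.InvExt (mres IsGen)
open GrothLib.Ample

noncomputable section

namespace GrothLib.SecProj5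

variable {k : Type u} [Field k] {X : Scheme.{u}} (f : X ⟶ Spec (CommRingCat.of k))

/-- The constants on an open. -/
def cst (V : X.Opens) : k →+* Γ(X, V) := (res (le_top : V ≤ ⊤)).comp (ProjUP.toGlobal f)

theorem res_cst {V W : X.Opens} (h : W ≤ V) (t : k) : res h (cst f V t) = cst f W t := res_res _ _ _

variable (c : Cocycle X) {N : ℕ} (a : Fin (N + 1) → c.sect 1 ⊤)

/-- The ratios of the coordinates. -/
def u (j l : Fin (N + 1)) : Γ(X, c.locus (a j)) := (c.exists_ratio (a j) (a l)).choose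

theorem u_spec (j l : Fin (N + 1)) :
    c.sectRes le_top (a l) = u c a j l • c.sectRes (le_top : c.locus (a j) ≤ ⊤) (a j) ∧
      X.basicOpen (u c a j l) = c.locus (a j) ⊓ c.locus (a l) :=
  (c.exists_ratio (a j) (a l)).choose_spec

theorem ratio_unique {τ ρ : c.sect 1 ⊤} {W : X.Opens} (hW : W ≤ c.locus τ) {g g' : Γ(X, W)}
    (h : c.sectRes (le_top : W ≤ ⊤) ρ = g • c.sectRes le_top τ)
    (h' : c.sectRes (le_top : W ≤ ⊤) ρ = g' • c.sectRes le_top τ) : g = g' :=
  c.smul_injective_of_le_locus τ hW (h.symm.trans h')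

theorem sectRes_ratio {τ ρ : c.sect 1 ⊤} {V W : X.Opens} (hW : W ≤ V) {g : Γ(X, V)}
    (h : c.sectRes (le_top : V ≤ ⊤) ρ = g • c.sectRes le_top τ) :
    c.sectRes (le_top : W ≤ ⊤) ρ = res hW g • c.sectRes le_top τ := by
  have h' := congrArg (c.sectRes hW) h
  rwa [c.sectRes_smul, c.sectRes_sectRes, c.sectRes_sectRes] at h'

theorem u_self (j : Fin (N + 1)) : u c a j j = 1 :=
  ratio_unique c le_rfl (u_spec c a j j).1 (one_smul _ _).symm

/-- The vectors of the points with values in a ring. -/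
def IsPt {S : Type u} [CommRing S] (κ : k →+* S) (v : Fin (N + 1) → S) : Prop :=
  (∃ j, IsUnit (v j)) ∧ ∀ j, IsUnit (v j) →
    ∃ Φ : Γ(X, c.locus (a j)) →+* S, (∀ t, Φ (cst f _ t) = κ t) ∧ ∀ l, v l = v j * Φ (u c a j l)

variable (hgen : ∀ j, IsAffineOpen (c.locus (a j)) ∧
  Subring.closure (Set.range (cst f (c.locus (a j))) ∪ Set.range (u c a j)) = ⊤)

include hgen in
theorem hom_ext_piece {S : Type u} [CommRing S] (j : Fin (N + 1)) {Φ Ψ : Γ(X, c.locus (a j)) →+* S}
    (h1 : ∀ t, Φ (cst f _ t) = Ψ (cst f _ t)) (h2 : ∀ l, Φ (u c a j l) = Ψ (u c a j l)) : Φ = Ψ :=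
  RingHom.eq_of_eqOn_set_dense (hgen j).2 (by
    rintro _ (⟨t, rfl⟩ | ⟨l, rfl⟩)
    · exact h1 t
    · exact h2 l)

variable [IsProper f]

include hgen in
/-- A projection separating dual-number points and without base points is a closed immersion. -/
theorem exists_closedImmersion_of_separates (hcov : ∀ x : X, ∃ j, x ∈ c.locus (a j))
    {M : ℕ} (L : Fin (M + 1) → Fin (N + 1) → k)
    (H0 : ∀ (Ω : Type u) [Field Ω] (κ : k →+* Ω) (v : Fin (N + 1) → Ω), IsPt f c a κ v →
      ∃ q, ∑ l, κ (L q l) * v l ≠ 0)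
    (H1 : ∀ (Ω : Type u) [Field Ω] (κ : k →+* Ω) (v w : Fin (N + 1) → DualNumber Ω),
      IsPt f c a ((inlHom Ω Ω).comp κ) v → IsPt f c a ((inlHom Ω Ω).comp κ) w →
      (∀ q, ∑ l, (inlHom Ω Ω).comp κ (L q l) * v l = ∑ l, (inlHom Ω Ω).comp κ (L q l) * w l) → v = w) :
    ∃ i : X ⟶ CohB1.ProjSpace M k, IsClosedImmersion i ∧ i ≫ CohB1.ProjSpace.toSpec M k = f := by
  classical
  let b : Fin (M + 1) → c.sect 1 ⊤ := fun q => ∑ l, ProjUP.toGlobal f (L q l) • a l
  have hb : ∀ (V : X.Opens) (τ : c.sect 1 ⊤) (q : Fin (M + 1)) (g : Fin (N + 1) → Γ(X, V)),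
      (∀ l, c.sectRes (le_top : V ≤ ⊤) (a l) = g l • c.sectRes le_top τ) →
      c.sectRes (le_top : V ≤ ⊤) (b q) = (∑ l, cst f V (L q l) * g l) • c.sectRes le_top τ := by
    intro V τ q g hg
    simp only [b, map_sum, Finset.sum_smul]
    exact Finset.sum_congr rfl fun l _ => by rw [c.sectRes_smul, hg l, smul_smul]; rfl
  -- no base points
  have hcovb : ∀ x : X, ∃ q, x ∈ c.locus (b q) := by
    intro x
    obtain ⟨j, hxj⟩ := hcov x
    let ev : ∀ (V : X.Opens) (h : x ∈ V), Γ(X, V) →+* X.residueField x := fun V h => (X.evaluation V x h).hom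
    have hres : ∀ {V W : X.Opens} (h : W ≤ V) (hx : x ∈ W) (g : Γ(X, V)), ev W hx (res h g) = ev V (h hx) g :=
      fun {V W} h hx g => congrArg (X.residue x).hom (X.presheaf.germ_res_apply (homOfLE h) x hx g)
    let κ : k →+* X.residueField x := (ev _ hxj).comp (cst f _)
    let v : Fin (N + 1) → X.residueField x := fun l => ev _ hxj (u c a j l)
    have hvj : v j = 1 := by simp only [v, u_self, map_one]
    have hpt : IsPt f c a κ v := by
      refine ⟨⟨j, by rw [hvj]; exact isUnit_one⟩, fun j' hj' => ?_⟩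
      have hxj' : x ∈ c.locus (a j') := by
        have h := (Scheme.evaluation_ne_zero_iff_mem_basicOpen X x hxj (u c a j j')).mp hj'.ne_zero
        rw [(u_spec c a j j').2] at h
        exact h.2
      refine ⟨ev _ hxj', fun t => ?_, fun l => ?_⟩
      · let W := c.locus (a j) ⊓ c.locus (a j')
        show ev _ hxj' (cst f _ t) = ev _ hxj (cst f _ t)
        rw [← hres (inf_le_left : W ≤ _) ⟨hxj, hxj'⟩, ← hres (inf_le_right : W ≤ _) ⟨hxj, hxj'⟩, res_cst, res_cst]
      · let W := c.locus (a j) ⊓ c.locus (a j')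
        have e : res (inf_le_left : W ≤ _) (u c a j l) =
            res (inf_le_left : W ≤ _) (u c a j j') * res (inf_le_right : W ≤ _) (u c a j' l) := by
          refine ratio_unique c (τ := a j) (ρ := a l) inf_le_left (sectRes_ratio c _ (u_spec c a j l).1) ?_
          rw [mul_comm, mul_smul, ← sectRes_ratio c _ (u_spec c a j j').1]
          exact sectRes_ratio c _ (u_spec c a j' l).1
        have e' := congrArg (ev W ⟨hxj, hxj'⟩) e
        rw [map_mul, hres, hres, hres] at e'
        exact e'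
    obtain ⟨q, hq⟩ := H0 _ κ v hpt
    refine ⟨q, ?_⟩
    have h := hb (c.locus (a j)) (a j) q (u c a j) fun l => (u_spec c a j l).1
    have h2 := c.basicOpen_eq_of_smul (a j) (b q) le_rfl _ h
    have h3 : ev _ hxj (∑ l, cst f (c.locus (a j)) (L q l) * u c a j l) ≠ 0 := by
      rw [map_sum]
      simpa [κ, v, map_mul] using hq
    have h4 := (Scheme.evaluation_ne_zero_iff_mem_basicOpen X x hxj _).mp h3
    rw [h2] at h4
    exact h4.2
  -- the coordinates on the new pieces
  have hx : ∀ q l, ∃ g : Γ(X, c.locus (b q)), c.sectRes le_top (a l) = g • c.sectRes (le_top : c.locus (b q) ≤ ⊤) (b q) ∧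
      X.basicOpen g = c.locus (b q) ⊓ c.locus (a l) := fun q l => c.exists_ratio (b q) (a l)
  choose xq hxq hxqbo using hx
  have hsum : ∀ q, ∑ l, cst f (c.locus (b q)) (L q l) * xq q l = 1 := fun q =>
    ratio_unique c le_rfl (hb _ (b q) q (xq q) (hxq q)) (one_smul _ _).symm
  have hg : ∀ q j, ∃ g : Γ(X, c.locus (a j)), c.sectRes le_top (b q) = g • c.sectRes (le_top : c.locus (a j) ≤ ⊤) (a j) ∧
      X.basicOpen g = c.locus (a j) ⊓ c.locus (b q) := fun q j => c.exists_ratio (a j) (b q)
  choose gq hgq hgqbo using hg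
  have hbo : ∀ q j, X.basicOpen (xq q j) = X.basicOpen (gq q j) := fun q j => by rw [hxqbo, hgqbo, inf_comm]
  have haff : ∀ q, IsAffineOpen (c.locus (b q)) := fun q => by
    refine isAffineOpen_of_isAffineOpen_basicOpen (c.locus (b q)) (Set.range (xq q)) ?_ ?_
    · refine (Ideal.eq_top_iff_one _).mpr ?_
      rw [← hsum q]
      exact Ideal.sum_mem _ fun l _ => Ideal.mul_mem_left _ _ (Ideal.subset_span ⟨l, rfl⟩)
    · rintro _ ⟨l, rfl⟩
      rw [hbo]
      exact (hgen l).1.basicOpen _
  -- the morphism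
  let L' := c.twist 1
  let e : L' ≅ c.twist 1 := Iso.refl _
  have hs : ⨆ q, c.locus (ProjMap.sec c e b q) = ⊤ := eq_top_iff.2 fun x _ => by
    obtain ⟨q, hq⟩ := hcovb x
    exact Opens.mem_iSup.2 ⟨q, hq⟩
  let D := ProjMap.dataOfSections c e b hs f
  haveI := Chow.isProper_toSpec M k
  haveI : IsProper (D.map ≫ CohB1.ProjSpace.toSpec M k) := by rw [D.map_toSpec]; infer_instance
  haveI : IsProper D.map := IsProper.of_comp D.map (CohB1.ProjSpace.toSpec M k)
  haveI : IsAffineHom D.map := isAffineHom_of_forall_exists_isAffineOpen D.map fun x => by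
    obtain ⟨i, hi⟩ := Opens.mem_iSup.mp ((ProjMap.iSup_basicOpen_X M k).ge (Opens.mem_top x))
    refine ⟨_, hi, Proj.isAffineOpen_basicOpen _ _ (ProjMap.X_mem i) one_pos, ?_⟩
    rw [D.map_preimage]
    exact haff i
  haveI hfin : IsFinite D.map := IsFinite.iff_isProper_and_isAffineHom.mpr ⟨inferInstance, inferInstance⟩
  have hDaff : ∀ q, IsAffineOpen ((ProjMap.pcoc M k).D q) := fun q =>
    Proj.isAffineOpen_basicOpen _ _ (ProjMap.X_mem q.down) one_pos
  haveI himm : IsImmersion D.map := by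
    refine isImmersion_of_affine_pieces D.map (ProjMap.pcoc M k).D hDaff
      (fun x => (ProjMap.pcoc M k).exists_mem _) (fun q => (hDaff q).preimage D.map) fun q => ?_
    let P := (ProjMap.pcoc M k).D q
    let V := c.locus (b q.down)
    have hV : D.map ⁻¹ᵁ P = V := D.map_preimage q.down
    let h0 : Γ(CohB1.ProjSpace M k, P) →+* Γ(X, D.map ⁻¹ᵁ P) := (D.map.appLE P _ le_rfl).hom
    refine surjective_of_finite_of_separating h0 ?_ ?_
    · have h := D.map.finite_app P (hDaff q)
      rwa [Scheme.Hom.app_eq_appLE] at h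
    intro Ω _ _ Φ Ψ hΦ hΦΨ
    -- move to the locus
    let toV : Γ(X, D.map ⁻¹ᵁ P) →+* Γ(X, V) := res hV.ge
    let ofV : Γ(X, V) →+* Γ(X, D.map ⁻¹ᵁ P) := res hV.le
    suffices hh : Φ.comp ofV = Ψ.comp ofV by
      refine RingHom.ext fun z => ?_
      have := RingHom.congr_fun hh (toV z)
      rwa [RingHom.comp_apply, RingHom.comp_apply, show ofV (toV z) = z from (res_res _ _ _).trans (res_self _ _)] at this
    have hrc : ∀ t, ∃ z, h0 z = ofV (cst f V t) := by
      intro t
      refine ⟨res (le_top : P ≤ ⊤) (ProjUP.toGlobal (CohB1.ProjSpace.toSpec M k) t), ?_⟩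
      let T : (Spec (CommRingCat.of k)).Opens := ⊤
      let z : Γ(Spec (CommRingCat.of k), T) := (Scheme.ΓSpecIso (CommRingCat.of k)).inv.hom t
      have hq : ∀ {S : Scheme.{u}} (p : S ⟶ Spec (CommRingCat.of k)) (W : S.Opens),
          res (le_top : W ≤ ⊤) (ProjUP.toGlobal p t) = (p.appLE T W (fun _ _ => trivial)).hom z := by
        intro S p W
        have h := congrArg (fun F => F.hom z) (p.appLE_map (U := T) (V := ⊤) (fun _ _ => trivial) (homOfLE (le_top : W ≤ ⊤)).op)
        refine Eq.trans ?_ h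
        show res _ (p.appTop.hom z) = res _ ((p.appLE T ⊤ (fun _ _ => trivial)).hom z)
        rw [show p.appLE T ⊤ (fun _ _ => trivial) = p.appTop by rw [Scheme.Hom.appTop, Scheme.Hom.app_eq_appLE]; rfl]
      show (D.map.appLE P _ le_rfl).hom (res _ (ProjUP.toGlobal _ t)) = res _ (res _ (ProjUP.toGlobal f t))
      rw [res_res, hq (CohB1.ProjSpace.toSpec M k) P, hq f (D.map ⁻¹ᵁ P), ← CommRingCat.comp_apply,
        Scheme.Hom.appLE_comp_appLE]
      have key : ∀ (ψ : X ⟶ Spec (CommRingCat.of k)) (e : D.map ⁻¹ᵁ P ≤ ψ ⁻¹ᵁ T), ψ = f →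
          (ψ.appLE T _ e).hom z = (f.appLE T _ (fun _ _ => trivial)).hom z := by
        rintro _ _ rfl; rfl
      exact key _ _ D.map_toSpec
    have hrφ : ∀ r, ∃ z, h0 z = ofV (D.φ q.down r) := fun r =>
      ⟨_, D.map_appLE_ratio q.down r hV.le le_rfl⟩
    let Φ' := Φ.comp ofV
    let Ψ' := Ψ.comp ofV
    show Φ' = Ψ'
    let κ : k →+* Ω := ((fstHom Ω Ω Ω).toRingHom.comp Φ').comp (cst f V)
    let κ' : k →+* DualNumber Ω := (inlHom Ω Ω).comp κ
    have hκΦ : ∀ t, Φ' (cst f V t) = κ' t := fun t => by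
      obtain ⟨z, hz⟩ := hrc t
      refine TrivSqZeroExt.ext rfl ?_
      show TrivSqZeroExt.snd (Φ (ofV (cst f V t))) = 0
      rw [← hz]
      exact hΦ z
    have hκΨ : ∀ t, Ψ' (cst f V t) = κ' t := fun t => by
      rw [← hκΦ]
      obtain ⟨z, hz⟩ := hrc t
      show Ψ (ofV (cst f V t)) = Φ (ofV (cst f V t))
      rw [← hz]
      exact (RingHom.congr_fun hΦΨ z).symm
    let v : Fin (N + 1) → DualNumber Ω := fun l => Φ' (xq q.down l)
    let w : Fin (N + 1) → DualNumber Ω := fun l => Ψ' (xq q.down l)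
    have hext : ∀ (Θ : Γ(X, V) →+* DualNumber Ω), (∀ t, Θ (cst f V t) = κ' t) →
        IsPt f c a κ' (fun l => Θ (xq q.down l)) ∧
        ∀ j, IsUnit (Θ (xq q.down j)) → ∃ Θj : Γ(X, c.locus (a j)) →+* DualNumber Ω,
          (∀ t, Θj (cst f _ t) = κ' t) ∧ (∀ l, Θ (xq q.down l) = Θ (xq q.down j) * Θj (u c a j l)) ∧
          ∀ z : Γ(X, V), ∃ (y : Γ(X, c.locus (a j))) (e : ℕ), Θ z * Θj (gq q.down j) ^ e = Θj y ∧
            ∀ (Θ₂ : Γ(X, V) →+* DualNumber Ω) (Θ₂j : Γ(X, c.locus (a j)) →+* DualNumber Ω),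
              (∀ (G : Γ(X, X.basicOpen (xq q.down j)) →+* DualNumber Ω),
                G.comp (res (X.basicOpen_le _)) = Θ₂ →
                G.comp (res ((hbo q.down j).le.trans (X.basicOpen_le _))) = Θ₂j) →
              IsUnit (Θ₂ (xq q.down j)) → Θ₂ z * Θ₂j (gq q.down j) ^ e = Θ₂j y := by
      intro Θ hΘ
      have main : ∀ j, IsUnit (Θ (xq q.down j)) → ∃ Θj : Γ(X, c.locus (a j)) →+* DualNumber Ω,
          (∀ t, Θj (cst f _ t) = κ' t) ∧ (∀ l, Θ (xq q.down l) = Θ (xq q.down j) * Θj (u c a j l)) ∧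
          ∀ z : Γ(X, V), ∃ (y : Γ(X, c.locus (a j))) (e : ℕ), Θ z * Θj (gq q.down j) ^ e = Θj y ∧
            ∀ (Θ₂ : Γ(X, V) →+* DualNumber Ω) (Θ₂j : Γ(X, c.locus (a j)) →+* DualNumber Ω),
              (∀ (G : Γ(X, X.basicOpen (xq q.down j)) →+* DualNumber Ω),
                G.comp (res (X.basicOpen_le _)) = Θ₂ →
                G.comp (res ((hbo q.down j).le.trans (X.basicOpen_le _))) = Θ₂j) →
              IsUnit (Θ₂ (xq q.down j)) → Θ₂ z * Θ₂j (gq q.down j) ^ e = Θ₂j y := by
        intro j hj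
        let W := X.basicOpen (xq q.down j)
        have hWV : W ≤ V := X.basicOpen_le _
        have hWj : W ≤ c.locus (a j) := (hbo q.down j).le.trans (X.basicOpen_le _)
        letI : Algebra Γ(X, V) Γ(X, W) := (res hWV).toAlgebra
        haveI : IsLocalization.Away (xq q.down j) Γ(X, W) :=
          (haff q.down).isLocalization_of_eq_basicOpen (xq q.down j) (homOfLE hWV) rfl
        let G : Γ(X, W) →+* DualNumber Ω := IsLocalization.Away.lift (xq q.down j) hj
        have hG : ∀ z, G (res hWV z) = Θ z := IsLocalization.Away.lift_eq (xq q.down j) hj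
        refine ⟨G.comp (res hWj), fun t => ?_, fun l => ?_, fun z => ?_⟩
        · rw [RingHom.comp_apply, res_cst, ← res_cst f hWV, hG, hΘ]
        · rw [← hG, ← hG, RingHom.comp_apply, ← map_mul]
          refine congrArg G (ratio_unique c (τ := b q.down) (ρ := a l) hWV (sectRes_ratio c hWV (hxq q.down l)) ?_)
          rw [mul_comm, mul_smul, ← sectRes_ratio c hWV (hxq q.down j)]
          exact sectRes_ratio c hWj (u_spec c a j l).1
        · letI : Algebra Γ(X, c.locus (a j)) Γ(X, W) := (res hWj).toAlgebra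
          haveI : IsLocalization.Away (gq q.down j) Γ(X, W) :=
            (hgen j).1.isLocalization_of_eq_basicOpen (gq q.down j) (homOfLE hWj) (hbo q.down j)
          obtain ⟨⟨y, _, e, rfl⟩, hy⟩ := IsLocalization.surj (Submonoid.powers (gq q.down j)) (res hWV z)
          have hy' : res hWV z * res hWj (gq q.down j) ^ e = res hWj y := by
            refine Eq.trans ?_ hy
            rw [← map_pow]; rfl
          refine ⟨y, e, ?_, fun Θ₂ Θ₂j hcompat hu2 => ?_⟩
          · rw [← hG, RingHom.comp_apply, RingHom.comp_apply, ← map_pow, ← map_mul, hy']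
          · let G2 : Γ(X, W) →+* DualNumber Ω := IsLocalization.Away.lift (xq q.down j) hu2
            have hG2 : G2.comp (res hWV) = Θ₂ := IsLocalization.Away.lift_comp (xq q.down j) hu2
            rw [← hcompat G2 hG2, ← hG2]
            simp only [RingHom.comp_apply]
            rw [← map_pow, ← map_mul, hy']
      refine ⟨⟨?_, fun j hj => ?_⟩, main⟩
      · by_contra hc
        push Not at hc
        have h1 := congrArg (fun x => TrivSqZeroExt.fst (Θ x)) (hsum q.down)
        simp only [map_sum, map_mul, map_one, TrivSqZeroExt.fst_sum, TrivSqZeroExt.fst_mul, TrivSqZeroExt.fst_one] at h1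
        rw [Finset.sum_eq_zero] at h1
        · exact zero_ne_one h1
        intro l _
        have := hc l
        rw [TrivSqZeroExt.isUnit_iff_isUnit_fst, isUnit_iff_ne_zero, not_not] at this
        rw [this, mul_zero]
      · obtain ⟨Θj, h1, h2, -⟩ := main j hj
        exact ⟨Θj, h1, h2⟩
    obtain ⟨hv, hvmain⟩ := hext Φ' hκΦ
    obtain ⟨hw, -⟩ := hext Ψ' hκΨ
    have hvw : v = w := by
      refine H1 Ω κ v w hv hw fun r => ?_
      have hr : ∑ l, cst f V (L r l) * xq q.down l = D.φ q.down r :=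
        ratio_unique c le_rfl (hb V (b q.down) r (xq q.down) (hxq q.down))
          ((c.exists_ratio (b q.down) (b r)).choose_spec.1)
      obtain ⟨z, hz⟩ := hrφ r
      have e1 : Φ' (D.φ q.down r) = Ψ' (D.φ q.down r) := by
        show Φ (ofV _) = Ψ (ofV _)
        rw [← hz]
        exact RingHom.congr_fun hΦΨ z
      rw [← hr, map_sum, map_sum] at e1
      simp only [map_mul] at e1
      refine Eq.trans ?_ (e1.trans ?_)
      · exact Finset.sum_congr rfl fun l _ => by rw [hκΦ]
      · exact Finset.sum_congr rfl fun l _ => by rw [hκΨ]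
    obtain ⟨j, hj⟩ := hv.1
    obtain ⟨Φj, hΦc, hΦu, hΦz⟩ := hvmain j hj
    have hwj : IsUnit (Ψ' (xq q.down j)) := by
      show IsUnit (w j); rw [← hvw]; exact hj
    let W := X.basicOpen (xq q.down j)
    have hWV : W ≤ V := X.basicOpen_le _
    have hWj : W ≤ c.locus (a j) := (hbo q.down j).le.trans (X.basicOpen_le _)
    have hcompat : ∀ (G : Γ(X, W) →+* DualNumber Ω), G.comp (res hWV) = Ψ' → G.comp (res hWj) = Φj := by
      intro G hG
      refine hom_ext_piece f c a hgen j (fun t => ?_) fun l => ?_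
      · rw [hΦc, RingHom.comp_apply, res_cst, ← res_cst f hWV, ← RingHom.comp_apply, hG, hκΨ]
      · refine hj.mul_left_cancel ((hΦu l).symm.trans ?_).symm
        have hl : v l = w l := by rw [hvw]
        refine hl.trans ?_
        have e : res hWV (xq q.down l) = res hWV (xq q.down j) * res hWj (u c a j l) := by
          refine ratio_unique c (τ := b q.down) (ρ := a l) hWV (sectRes_ratio c hWV (hxq q.down l)) ?_
          rw [mul_comm, mul_smul, ← sectRes_ratio c hWV (hxq q.down j)]
          exact sectRes_ratio c hWj (u_spec c a j l).1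
        show Ψ' (xq q.down l) = Φ' (xq q.down j) * G (res hWj (u c a j l))
        rw [← hG, RingHom.comp_apply, e, map_mul]
        congr 1
        show G (res hWV (xq q.down j)) = v j
        rw [hvw]
        exact RingHom.congr_fun hG _
    refine RingHom.ext fun z => ?_
    obtain ⟨y, e, h1, h2⟩ := hΦz z
    have h3 := h2 Ψ' Φj hcompat hwj
    have hu : IsUnit (Φj (gq q.down j)) := by
      have e2 : res hWV (xq q.down j) * res hWj (gq q.down j) = 1 := by
        refine ratio_unique c (τ := a j) (ρ := a j) hWj ?_ (one_smul _ _).symm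
        rw [mul_smul, ← sectRes_ratio c hWj (hgq q.down j)]
        exact sectRes_ratio c hWV (hxq q.down j)
      letI : Algebra Γ(X, V) Γ(X, W) := (res hWV).toAlgebra
      haveI : IsLocalization.Away (xq q.down j) Γ(X, W) :=
        (haff q.down).isLocalization_of_eq_basicOpen (xq q.down j) (homOfLE hWV) rfl
      let G : Γ(X, W) →+* DualNumber Ω := IsLocalization.Away.lift (xq q.down j) hwj
      rw [← hcompat G (IsLocalization.Away.lift_comp (xq q.down j) hwj)]
      exact (IsUnit.of_mul_eq_one_right _ e2).map G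
    exact (hu.pow e).mul_right_cancel (h1.trans h3.symm)
  exact ⟨D.map, IsClosedImmersion.of_isPreimmersion D.map D.map.isClosedMap.isClosed_range, D.map_toSpec⟩

end GrothLib.SecProj5
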