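import Groth.Agent.Lib.SecProj5.Project
import Groth.Agent.Lib.SecProj5.Alg
import Mathlib.AlgebraicGeometry.Morphisms.Smooth

/-!
# Projective smooth schemes embed in projective space of dimension `2d + 1`
-/

set_option autoImplicit false
set_option linter.all false
set_option backward.isDefEq.respectTransparency false
set_option maxHeartbeats 800000

universe u

open AlgebraicGeometry CategoryTheory CategoryTheory.Limits TopologicalSpace Opposite TrivSqZeroExt
open GrothLib.InvExt (mres IsGen)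
open GrothLib.Ample

noncomputable section

namespace GrothLib.SecProj5

variable {k : Type u} [Field k] {X : Scheme.{u}} (f : X ⟶ Spec (CommRingCat.of k))

theorem cst_eq_comp (V : X.Opens) :
    cst f V = (f.appLE ⊤ V (fun _ _ => trivial)).hom.comp (Scheme.ΓSpecIso (CommRingCat.of k)).inv.hom := by
  ext t
  let T : (Spec (CommRingCat.of k)).Opens := ⊤
  let z : Γ(Spec (CommRingCat.of k), T) := (Scheme.ΓSpecIso (CommRingCat.of k)).inv.hom t
  have h := congrArg (fun F => F.hom z) (f.appLE_map (U := T) (V := ⊤) (fun _ _ => trivial) (homOfLE (le_top : V ≤ ⊤)).op)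
  refine Eq.trans ?_ h
  show res _ (f.appTop.hom z) = res _ ((f.appLE T ⊤ (fun _ _ => trivial)).hom z)
  rw [show f.appLE T ⊤ (fun _ _ => trivial) = f.appTop by rw [Scheme.Hom.appTop, Scheme.Hom.app_eq_appLE]; rfl]

/-- The affine algebra of a piece is smooth of dimension at most that of the scheme. -/
theorem smooth_piece [Smooth f] {d : ℕ} (hd : topologicalKrullDim X = d) {V : X.Opens} (hV : IsAffineOpen V) :
    (cst f V).Smooth ∧ ringKrullDim Γ(X, V) ≤ d := by
  constructor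
  · rw [cst_eq_comp]
    have h := f.smooth_appLE (isAffineOpen_top _) hV (fun _ _ => trivial)
    exact RingHom.Smooth.respectsIso.2 _ (Scheme.ΓSpecIso (CommRingCat.of k)).symm.commRingCatIsoToRingEquiv h
  · have h1 : topologicalKrullDim V ≤ topologicalKrullDim X := V.ι.isEmbedding.isInducing.topologicalKrullDim_le
    rw [hd, hV.isoSpec.hom.homeomorph.isHomeomorph.topologicalKrullDim_eq] at h1
    have h2 : topologicalKrullDim (PrimeSpectrum Γ(X, V)) ≤ (d : WithBot ℕ∞) := h1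
    rwa [PrimeSpectrum.topologicalKrullDim_eq_ringKrullDim] at h2

variable (c : Cocycle X) {N : ℕ} (a : Fin (N + 1) → c.sect 1 ⊤)

/-- The matrix of the projection from a vector with nonzero `b`-th coordinate. -/
def projMat {M : ℕ} (p : Fin (M + 2) → k) (b : Fin (M + 2)) (q : Fin (M + 1)) (l : Fin (M + 2)) : k :=
  (if l = b.succAbove q then 1 else 0) - (if l = b then p (b.succAbove q) / p b else 0)

theorem sum_projMat {M : ℕ} (p : Fin (M + 2) → k) (b : Fin (M + 2)) (q : Fin (M + 1)) {S : Type u} [CommRing S]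
    (κ : k →+* S) (v : Fin (M + 2) → S) :
    ∑ l, κ (projMat p b q l) * v l = v (b.succAbove q) - κ (p (b.succAbove q) / p b) * v b := by
  simp [projMat, map_sub, sub_mul, Finset.sum_sub_distrib, apply_ite κ, ite_mul]

theorem eq_smul_of_kernel {M : ℕ} (p : Fin (M + 2) → k) (b : Fin (M + 2)) (hb : p b ≠ 0) {S : Type u} [CommRing S]
    (κ : k →+* S) (v : Fin (M + 2) → S) (h : ∀ q, ∑ l, κ (projMat p b q l) * v l = 0) :
    ∃ e : S, ∀ l, v l = e * κ (p l) := by
  refine ⟨v b * κ (p b)⁻¹, fun l => ?_⟩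
  rcases Fin.eq_self_or_eq_succAbove b l with rfl | ⟨q, rfl⟩
  · rw [mul_assoc, ← map_mul, inv_mul_cancel₀ hb, map_one, mul_one]
  · have h' := h q
    rw [sum_projMat, sub_eq_zero] at h'
    rw [h', div_eq_mul_inv, map_mul]
    ring

variable [IsProper f] [Smooth f]

/-- One projection step. -/
theorem exists_step [Infinite k] {d : ℕ} (hd : topologicalKrullDim X = d) {M : ℕ} (hM : 2 * d + 1 ≤ M)
    (r : X ⟶ CohB1.ProjSpace (M + 1) k) [IsClosedImmersion r] (hr : r ≫ CohB1.ProjSpace.toSpec (M + 1) k = f) :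
    ∃ i : X ⟶ CohB1.ProjSpace M k, IsClosedImmersion i ∧ i ≫ CohB1.ProjSpace.toSpec M k = f := by
  classical
  have hinv : PicF.IsInvertible ((Scheme.Modules.pullback r).obj (Twist.twistProjSpace (M + 1) k 1)) :=
    InvExt.isInvertible_of_gens fun x => by
      obtain ⟨j, hj⟩ := (ProjMap.pcoc (M + 1) k).exists_mem (r x)
      exact ⟨_, _, hj, ProjMap.isGen_pullCoord r j⟩
  obtain ⟨c, ⟨τ⟩⟩ := Ample.exists_cocycle hinv
  let a : Fin (M + 2) → c.sect 1 ⊤ := KerImm5.coordFam r c τ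
  have hgen : ∀ j, IsAffineOpen (c.locus (a j)) ∧
      Subring.closure (Set.range (cst f (c.locus (a j))) ∪ Set.range (u c a j)) = ⊤ := fun j => by
    obtain ⟨h1, h2⟩ := KerImm5.closure_coord f c r hr τ j
    refine ⟨h1, top_le_iff.mp (h2.ge.trans (Subring.closure_le.mpr ?_))⟩
    rintro g (⟨t, rfl⟩ | ⟨b, hb⟩)
    · exact Subring.subset_closure (Or.inl ⟨t, rfl⟩)
    · exact Subring.subset_closure (Or.inr ⟨b, ratio_unique c le_rfl (u_spec c a j b).1 hb⟩)
  have hcov : ∀ x : X, ∃ j, x ∈ c.locus (a j) := fun x => by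
    obtain ⟨j, hj⟩ := (ProjMap.pcoc (M + 1) k).exists_mem (r x)
    exact ⟨j.down, (KerImm5.W_eq r c τ j.down).le hj⟩
  letI alg : ∀ j, Algebra k Γ(X, c.locus (a j)) := fun j => (cst f _).toAlgebra
  haveI hsm : ∀ j, Algebra.Smooth k Γ(X, c.locus (a j)) := fun j =>
    RingHom.smooth_algebraMap.mp (smooth_piece f hd (hgen j).1).1
  have hdim : ∀ j, ringKrullDim Γ(X, c.locus (a j)) ≤ d := fun j => (smooth_piece f hd (hgen j).1).2
  have hnorm : ∀ j, ∃ g : MvPolynomial (Fin d) k →ₐ[k] Γ(X, c.locus (a j)), g.IsIntegral := fun j =>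
    exists_integral_of_dim_le (hdim j)
  choose g hg using hnorm
  have hsec : ∀ jj : Fin (M + 2) × Fin (M + 2), ∃ F ≠ (0 : MvPolynomial (Fin (M + 2)) k),
      ∀ (Ω : Type u) [Field Ω] [Algebra k Ω] (φ : Γ(X, c.locus (a jj.1)) →ₐ[k] Ω) (ψ : Γ(X, c.locus (a jj.2)) →ₐ[k] Ω)
        (x y : Ω), MvPolynomial.aeval (fun l => x * φ (u c a jj.1 l) + y * ψ (u c a jj.2 l)) F = 0 := fun jj =>
    exists_secant_poly (g jj.1) (hg jj.1) (g jj.2) (hg jj.2) (by omega) _ _
  choose Fs hFs hFs0 using hsec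
  have htan : ∀ j, ∃ F ≠ (0 : MvPolynomial (Fin (M + 2)) k), ∀ (Ω : Type u) [Field Ω] [Algebra k Ω]
      [Algebra Γ(X, c.locus (a j)) Ω] [IsScalarTower k Γ(X, c.locus (a j)) Ω]
      (δ : Derivation k Γ(X, c.locus (a j)) Ω) (x : Ω),
        MvPolynomial.aeval (fun l => x * algebraMap _ Ω (u c a j l) + δ (u c a j l)) F = 0 := fun j =>
    exists_tangent_poly (hdim j) (by omega) _
  choose Ft hFt hFt0 using htan
  obtain ⟨p, hp0, hp⟩ := exists_avoid (k := k) (Nat.succ_pos _) (Sum.elim Fs Ft) (fun i => by cases i <;> simp [hFs, hFt])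
  obtain ⟨b, hb⟩ := Function.ne_iff.mp hp0
  have key : ∀ (F : MvPolynomial (Fin (M + 2)) k), MvPolynomial.eval p F ≠ 0 → ∀ (Ω : Type u) [Field Ω] [Algebra k Ω],
      MvPolynomial.aeval (fun l => algebraMap k Ω (p l)) F ≠ 0 := fun F hF Ω _ _ => by
    rw [show (fun l => algebraMap k Ω (p l)) = algebraMap k Ω ∘ p from rfl, MvPolynomial.aeval_algebraMap_apply]
    exact fun h => hF ((algebraMap k Ω).injective (h.trans (map_zero _).symm))
  refine exists_closedImmersion_of_separates f c a hgen hcov (projMat p b) (fun Ω _ κ v hv => ?_)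
    (fun Ω _ κ v w hv hw heq => ?_)
  · by_contra hc
    push Not at hc
    obtain ⟨⟨j, hj⟩, hpt⟩ := hv
    obtain ⟨Φ, hΦc, hΦ⟩ := hpt j hj
    obtain ⟨e, he⟩ := eq_smul_of_kernel p b hb κ v hc
    have he0 : e ≠ 0 := fun h => hj.ne_zero (by rw [he, h, zero_mul])
    letI : Algebra k Ω := κ.toAlgebra
    let φ : Γ(X, c.locus (a j)) →ₐ[k] Ω := { Φ with commutes' := hΦc }
    refine key _ (hp (Sum.inl (j, j))) Ω ?_
    have h := hFs0 (j, j) Ω φ φ (v j / e) 0
    refine Eq.trans ?_ h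
    congr 1
    refine congrArg _ (funext fun l => ?_)
    show κ (p l) = v j / e * Φ (u c a j l) + 0 * _
    rw [zero_mul, add_zero, div_mul_eq_mul_div, ← hΦ l, he l, mul_div_cancel_left₀ _ he0]
  · obtain ⟨⟨j, hj⟩, hvpt⟩ := hv
    obtain ⟨Φ, hΦc, hΦ⟩ := hvpt j hj
    obtain ⟨e, he⟩ := eq_smul_of_kernel p b hb ((inlHom Ω Ω).comp κ) (fun l => v l - w l) fun q => by
      simp only [mul_sub, Finset.sum_sub_distrib, sub_eq_zero]
      exact heq q
    letI : Algebra k Ω := κ.toAlgebra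
    have hcomm : ∀ (j' : Fin (M + 2)) (Θ : Γ(X, c.locus (a j')) →+* DualNumber Ω),
        (∀ t, Θ (cst f _ t) = ((inlHom Ω Ω).comp κ) t) →
        ∀ t, ((fstHom Ω Ω Ω).toRingHom.comp Θ) (cst f _ t) = κ t := fun j' Θ h t => by
      show TrivSqZeroExt.fst (Θ (cst f _ t)) = κ t
      rw [h]; rfl
    let φ : Γ(X, c.locus (a j)) →ₐ[k] Ω := { (fstHom Ω Ω Ω).toRingHom.comp Φ with commutes' := hcomm j Φ hΦc }
    have he1 : ∀ l, TrivSqZeroExt.fst (v l) - TrivSqZeroExt.fst (w l) = TrivSqZeroExt.fst e * κ (p l) := fun l => by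
      simpa using congrArg TrivSqZeroExt.fst (he l)
    have hv0 : ∀ l, TrivSqZeroExt.fst (v l) = TrivSqZeroExt.fst (v j) * φ (u c a j l) := fun l => by
      conv_lhs => rw [hΦ l]
      exact TrivSqZeroExt.fst_mul _ _
    obtain ⟨⟨j', hj'⟩, hwpt⟩ := hw
    have hfe : TrivSqZeroExt.fst e = 0 := by
      by_contra hfe
      obtain ⟨Ψ, hΨc, hΨ⟩ := hwpt j' hj'
      let ψ : Γ(X, c.locus (a j')) →ₐ[k] Ω := { (fstHom Ω Ω Ω).toRingHom.comp Ψ with commutes' := hcomm j' Ψ hΨc }
      refine key _ (hp (Sum.inl (j, j'))) Ω ?_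
      have h := hFs0 (j, j') Ω φ ψ (TrivSqZeroExt.fst (v j) / TrivSqZeroExt.fst e)
        (-(TrivSqZeroExt.fst (w j') / TrivSqZeroExt.fst e))
      refine Eq.trans ?_ h
      congr 1
      refine congrArg _ (funext fun l => ?_)
      show κ (p l) = _
      have hw0 : TrivSqZeroExt.fst (w l) = TrivSqZeroExt.fst (w j') * ψ (u c a j' l) := by
        conv_lhs => rw [hΨ l]
        exact TrivSqZeroExt.fst_mul _ _
      have h1 := he1 l
      rw [hv0 l, hw0] at h1
      field_simp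
      linear_combination -h1
    have h00 : ∀ l, TrivSqZeroExt.fst (v l) = TrivSqZeroExt.fst (w l) := fun l => by
      have := he1 l
      rwa [hfe, zero_mul, sub_eq_zero] at this
    have hwj : IsUnit (w j) := by
      rw [TrivSqZeroExt.isUnit_iff_isUnit_fst, ← h00]
      exact TrivSqZeroExt.isUnit_iff_isUnit_fst.mp hj
    obtain ⟨Ψ, hΨc, hΨ⟩ := hwpt j hwj
    have hj0 : TrivSqZeroExt.fst (v j) ≠ 0 := (TrivSqZeroExt.isUnit_iff_isUnit_fst.mp hj).ne_zero
    have hfst : (fstHom Ω Ω Ω).toRingHom.comp Φ = (fstHom Ω Ω Ω).toRingHom.comp Ψ := by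
      refine hom_ext_piece f c a hgen j (fun t => (hcomm j Φ hΦc t).trans (hcomm j Ψ hΨc t).symm) fun l => ?_
      refine mul_left_cancel₀ hj0 ((hv0 l).symm.trans ((h00 l).trans ?_))
      conv_lhs => rw [hΨ l]
      rw [TrivSqZeroExt.fst_mul, ← h00]
      rfl
    have hf2 : ∀ x, TrivSqZeroExt.fst (Ψ x) = TrivSqZeroExt.fst (Φ x) := fun x => (RingHom.congr_fun hfst x).symm
    letI : Algebra Γ(X, c.locus (a j)) Ω := φ.toRingHom.toAlgebra
    haveI : IsScalarTower k Γ(X, c.locus (a j)) Ω := IsScalarTower.of_algebraMap_eq fun t => (φ.commutes t).symm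
    have hse : TrivSqZeroExt.snd e = 0 := by
      by_contra hse
      let s := TrivSqZeroExt.fst (v j) / TrivSqZeroExt.snd e
      let δ₀ : Γ(X, c.locus (a j)) → Ω := fun x => s * (TrivSqZeroExt.snd (Φ x) - TrivSqZeroExt.snd (Ψ x))
      let δl : Γ(X, c.locus (a j)) →ₗ[k] Ω :=
        { toFun := δ₀
          map_add' := fun x y => by simp [δ₀]; ring
          map_smul' := fun t x => by
            show δ₀ (cst f _ t * x) = κ t * δ₀ x
            simp [δ₀, hΦc, hΨc, TrivSqZeroExt.snd_mul]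
            ring }
      let δ : Derivation k Γ(X, c.locus (a j)) Ω := Derivation.mk' δl fun x y => by
        show δ₀ (x * y) = φ x * δ₀ y + φ y * δ₀ x
        show _ = TrivSqZeroExt.fst (Φ x) * δ₀ y + TrivSqZeroExt.fst (Φ y) * δ₀ x
        simp [δ₀, TrivSqZeroExt.snd_mul, hf2]
        ring
      refine key _ (hp (Sum.inr j)) Ω ?_
      have h := hFt0 j Ω δ ((TrivSqZeroExt.snd (v j) - TrivSqZeroExt.snd (w j)) / TrivSqZeroExt.snd e)
      refine Eq.trans ?_ h
      congr 1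
      refine congrArg _ (funext fun l => ?_)
      show κ (p l) = _ * TrivSqZeroExt.fst (Φ (u c a j l)) + δ₀ (u c a j l)
      have h1 := congrArg TrivSqZeroExt.snd (he l)
      rw [hΦ l, hΨ l] at h1
      simp [TrivSqZeroExt.snd_mul, hfe, hf2, ← h00] at h1
      simp only [δ₀, s]
      field_simp
      linear_combination -h1
    funext l
    have h := he l
    have e0 : e = 0 := TrivSqZeroExt.ext hfe hse
    rwa [e0, zero_mul, sub_eq_zero] at h

/-- Adding zero coordinates. -/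
theorem exists_pad {N M : ℕ} (hNM : N ≤ M) (r : X ⟶ CohB1.ProjSpace N k) [IsClosedImmersion r]
    (hr : r ≫ CohB1.ProjSpace.toSpec N k = f) :
    ∃ i : X ⟶ CohB1.ProjSpace M k, IsClosedImmersion i ∧ i ≫ CohB1.ProjSpace.toSpec M k = f := by
  classical
  have hinv : PicF.IsInvertible ((Scheme.Modules.pullback r).obj (Twist.twistProjSpace N k 1)) :=
    InvExt.isInvertible_of_gens fun x => by
      obtain ⟨j, hj⟩ := (ProjMap.pcoc N k).exists_mem (r x)
      exact ⟨_, _, hj, ProjMap.isGen_pullCoord r j⟩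
  obtain ⟨c, ⟨τ⟩⟩ := Ample.exists_cocycle hinv
  let a : Fin (N + 1) → c.sect 1 ⊤ := KerImm5.coordFam r c τ
  have hgen : ∀ j, IsAffineOpen (c.locus (a j)) ∧
      Subring.closure (Set.range (cst f (c.locus (a j))) ∪ Set.range (u c a j)) = ⊤ := fun j => by
    obtain ⟨h1, h2⟩ := KerImm5.closure_coord f c r hr τ j
    refine ⟨h1, top_le_iff.mp (h2.ge.trans (Subring.closure_le.mpr ?_))⟩
    rintro g (⟨t, rfl⟩ | ⟨b, hb⟩)
    · exact Subring.subset_closure (Or.inl ⟨t, rfl⟩)
    · exact Subring.subset_closure (Or.inr ⟨b, ratio_unique c le_rfl (u_spec c a j b).1 hb⟩)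
  have hcov : ∀ x : X, ∃ j, x ∈ c.locus (a j) := fun x => by
    obtain ⟨j, hj⟩ := (ProjMap.pcoc N k).exists_mem (r x)
    exact ⟨j.down, (KerImm5.W_eq r c τ j.down).le hj⟩
  have hsum : ∀ {S : Type u} [CommRing S] (κ : k →+* S) (v : Fin (N + 1) → S) (l : Fin (N + 1)),
      ∑ l', κ (if (⟨l.1, by omega⟩ : Fin (M + 1)).1 = l'.1 then 1 else 0) * v l' = v l := fun κ v l => by
    simp [apply_ite κ, Fin.val_inj]
  refine exists_closedImmersion_of_separates f c a hgen hcov (fun q l => if q.1 = l.1 then 1 else 0)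
    (fun Ω _ κ v hv => ?_) (fun Ω _ κ v w hv hw heq => ?_)
  · obtain ⟨⟨j, hj⟩, -⟩ := hv
    exact ⟨⟨j.1, by omega⟩, by rw [hsum]; exact hj.ne_zero⟩
  · funext l
    have h := heq ⟨l.1, by omega⟩
    rwa [hsum, hsum] at h

/-- Embedding into projective space of dimension `2d + 1`. -/
theorem exists_embedding [Infinite k] {d : ℕ} (hd : topologicalKrullDim X = d) :
    ∀ (N : ℕ) (r : X ⟶ CohB1.ProjSpace N k), IsClosedImmersion r → r ≫ CohB1.ProjSpace.toSpec N k = f →
      ∃ i : X ⟶ CohB1.ProjSpace (2 * d + 1) k, IsClosedImmersion i ∧ i ≫ CohB1.ProjSpace.toSpec (2 * d + 1) k = f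
  | 0, r, hr, hrf => exists_pad f (Nat.zero_le _) r hrf
  | N + 1, r, hr, hrf => by
    by_cases h : N + 1 ≤ 2 * d + 1
    · exact exists_pad f h r hrf
    · obtain ⟨i, hi, hif⟩ := exists_step f hd (by omega : 2 * d + 1 ≤ N) r hrf
      exact exists_embedding hd N i hi hif

end GrothLib.SecProj5
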